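import Groth.Agent.EtDual.K933.Main
import Groth.Agent.EtDual.K617.PerfUD
import Groth.Agent.EtDual.K375.Tilt
import Groth.Agent.EtDual.K658.Soo
import Groth.Agent.EtDual.K855.VDesc
import Groth.Agent.EtDual.K152.Fib
import Groth.Agent.EtDual.K147.HasCover
import Groth.Agent.EtDual.K850.EndK
import Groth.Agent.EtDual.K850.RedD

/-!
# Absolute purity: the comparison `H^i_(x)(R_∞) = H^i_(x)(S_∞)`

* `K ℓ d`: the complex of presheaves on schemes over `Spec ℤ[x₁, …, x_d]` of sections of an injective resolution of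
  `ℤ/ℓ` (on the big ph site) with supports in `V(x₁, …, x_d)`;
* `T`: `H^i K(B, x) ≅ H^i K(W(B)/ξ, [x])` for `B` perfect and `ξ` distinguished;
* `hRinf`: `H^i K(R_∞, x) ≅ H^i K(S_∞, x)`.
-/

set_option autoImplicit false
set_option linter.unusedSectionVars false
set_option backward.isDefEq.respectTransparency false
set_option backward.isDefEq.respectTransparency.types false

universe u

open CategoryTheory CategoryTheory.Limits Opposite Ideal K148.Perf AlgebraicGeometry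

noncomputable section

namespace K608.Final

open K781.Desc K933.PerfCat K933.UnivDesc K933.Main K617.PerfUD K617.TauDesc K617.UDQuasi K343.Basic K224.Desc
open K855.HomCmp K152.Fib K148.Prim

attribute [local instance] isGrothendieckAbelian_AbK

/-- The complement of the origin. -/
def U0 (d : ℕ) : (Spec (Pd.{u} d)).Opens :=
  ⟨(PrimeSpectrum.zeroLocus (Set.range (MvPolynomial.X : Fin d → MvPolynomial (Fin d) (ULift.{u} ℤ))))ᶜ,
    (PrimeSpectrum.isClosed_zeroLocus _).isOpen_compl⟩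

instance (Y : Scheme.{u}) : ContK HTop.phTopology Y := cont_a Good.le Y

/-- An injective resolution on the big site. -/
def J (ℓ d : ℕ) : InjectiveResolution ((aPullK HTop.phTopology (Spec (Pd.{u} d))).obj
    (EtCoh.const (Spec (Pd.{u} d)) (ZMod ℓ))) := InjectiveResolution.of _

/-- The complex of sections with supports. -/
def K (ℓ d : ℕ) : CochainComplex ((Over (Spec (Pd.{u} d)))ᵒᵖ ⥤ AddCommGrpCat.{u + 1}) ℤ :=
  KF (U0 d).ι (psh (J ℓ d))

theorem isZero_K_X (ℓ d : ℕ) (i : ℤ) (hi : i < 0) : IsZero ((K.{u} ℓ d).X i) :=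
  isZero_KF_X (isZero_psh (J ℓ d) i hi)

theorem bb_K (ℓ d : ℕ) : BB (K.{u} ℓ d) := ⟨0, fun i hi => isZero_K_X ℓ d i hi⟩


/-- The étale cohomology of the coefficients is their cohomology on the big site. -/
theorem hv (ℓ : ℕ) [NeZero ℓ] (d : ℕ) (V : Over (Spec (Pd.{u} d))) (q : ℕ) (hq : 0 < q) :
    IsZero (((uResK HTop.phTopology V.hom).rightDerived q).obj ((aPullK HTop.phTopology (Spec (Pd.{u} d))).obj
      (EtCoh.const (Spec (Pd.{u} d)) (ZMod ℓ)))) :=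
  K855.VDesc.hv_ph (Groth.Agent.EtDual.K850.Red.isTorsion_const _ ℓ (NeZero.pos ℓ)) V q hq

/-- **The comparison theorem**. -/
theorem T {ℓ d : ℕ} (HVK : ∀ {R₀ : CommRingCat.{u}} (x : Fin d → R₀), HV (K.{u} ℓ d) x)
    (HUK : ∀ {R₀ : CommRingCat.{u}} (x : Fin d → R₀) (a : R₀), a ∈ (span (Set.range x)).radical →
      HU (K.{u} ℓ d) x a) {p : ℕ} [Fact p.Prime] {B₀ : CommRingCat.{u}} (hB₀ : IsPerf p B₀)
    (ξ : WittVector p (B₀ : Type u)) (hξ : IsDist ξ) (x : Fin d → B₀)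
    (hx : ξ.coeff 0 ∈ (span (Set.range x)).radical)
    (hp : ((p : ℕ) : CommRingCat.of (WittVector p (B₀ : Type u) ⧸ span {ξ})) ∈
      (span (Set.range (tx₀ ξ x))).radical)
    (α : ((F2 p x).op ⋙ spU _).op ⋙ (K.{u} ℓ d).homology 0 ⟶ ((F1 ξ x).op ⋙ spU _).op ⋙ (K.{u} ℓ d).homology 0)
    (hgood : ∀ T : PC p B₀, ∃ (X : PC p B₀) (f : X ⟶ T), tcov (ξ.coeff 0) f ∧
      (∀ i > 0, IsZero (((K.{u} ℓ d).homology i).obj (op ((spU _).obj (op ((F2 p x).obj X.unop)))))) ∧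
      (∀ i > 0, IsZero (((K.{u} ℓ d).homology i).obj (op ((spU _).obj (op ((F1 ξ x).obj X.unop)))))) ∧
      IsIso (α.app (op X))) (i : ℤ) :
    Nonempty ((evO (ptS B₀ x) (K.{u} ℓ d)).homology i ≅ (evO (ptS _ (tx₀ ξ x)) (K.{u} ℓ d)).homology i) :=
  K933.Main.main hB₀ (fun i hi => isZero_K_X ℓ d i hi)
    (fun _ _ f hf => ud_K1 (bb_K ℓ d) ξ hξ x (HVK _) (HUK _ _ hp) K147.VR.hasProdCover f hf)
    (fun _ _ f hf => ud_K2 (bb_K ℓ d) x (ξ.coeff 0) (HVK _) (HUK _ _ hx) K147.VR.hasProdCover f hf) α hgood i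

/-- The third input: comparison in degree zero and local acyclicity. -/
def AlphaIn (ℓ d : ℕ) : Prop :=
  ∀ {p : ℕ} [Fact p.Prime] {B₀ : CommRingCat.{u}} (_ : IsPerf p B₀) (ξ : WittVector p (B₀ : Type u)) (_ : IsDist ξ)
    (x : Fin d → B₀), ∃ (α : ((F2 p x).op ⋙ spU _).op ⋙ (K.{u} ℓ d).homology 0 ⟶
      ((F1 ξ x).op ⋙ spU _).op ⋙ (K.{u} ℓ d).homology 0),
    ∀ T : PC p B₀, ∃ (X : PC p B₀) (f : X ⟶ T), tcov (ξ.coeff 0) f ∧
      (∀ i > 0, IsZero (((K.{u} ℓ d).homology i).obj (op ((spU _).obj (op ((F2 p x).obj X.unop)))))) ∧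
      (∀ i > 0, IsZero (((K.{u} ℓ d).homology i).obj (op ((spU _).obj (op ((F1 ξ x).obj X.unop)))))) ∧
      IsIso (α.app (op X))

/-- A quasi-isomorphism gives isomorphisms on homology. -/
theorem nonempty_of_QMap {C : Type*} [Category* C] {A : CochainComplex (Cᵒᵖ ⥤ AddCommGrpCat.{u + 1}) ℤ} {Z' Z : C}
    {g : Z' ⟶ Z} (h : QMap A g) (i : ℤ) : Nonempty ((evO Z A).homology i ≅ (evO Z' A).homology i) := by
  have h1 : QuasiIso ((NatTrans.mapHomologicalComplex ((evaluation Cᵒᵖ AddCommGrpCat.{u + 1}).map g.op)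
    (ComplexShape.up ℤ)).app A) := h
  exact ⟨isoOfQuasiIsoAt ((NatTrans.mapHomologicalComplex ((evaluation Cᵒᵖ AddCommGrpCat.{u + 1}).map g.op)
    (ComplexShape.up ℤ)).app A) i⟩

section tower

open Groth.Agent.EtDual.K375 Groth.Agent.EtDual.K375.Tower

variable {ℓ d : ℕ} (HVK : ∀ {R₀ : CommRingCat.{u}} (x : Fin d → R₀), HV (K.{u} ℓ d) x)
  (HUK : ∀ {R₀ : CommRingCat.{u}} (x : Fin d → R₀) (a : R₀), a ∈ (span (Set.range x)).radical →
      HU (K.{u} ℓ d) x a) (HA : AlphaIn.{u} ℓ d)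
  {p : ℕ} [Fact p.Prime] {k : Type u} [Field k] [IsAlgClosed k] [CharP k p] [PerfectRing k p]
  (f : A p k d) (hf : f ∈ Ideal.span (Set.range (MvPowerSeries.X : Fin d → A p k d)))

variable (d p k) in
theorem hS (s : K658.Soo.S p k d) : ∃ (n : ℕ) (h : _), PerfectClosure.of (MvPowerSeries (Fin d) k) p h = s ^ p ^ n := by
  obtain ⟨n, h, hh⟩ := (K658.Soo.isRad_S p k d).pow s
  exact ⟨n, h, hh⟩

variable (d p k) in
theorem hof : Function.Injective (PerfectClosure.of (MvPowerSeries (Fin d) k) p) :=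
  K658.Soo.of_injective _ p

/-- The element `ξ`. -/
abbrev ξ : WittVector p (K658.Soo.S p k d) :=
  Tilt.xi (PerfectClosure.of (MvPowerSeries (Fin d) k) p) (hof d p k) (hS d p k) f

include hf in
theorem rho_mem : Tilt.rho0 (PerfectClosure.of (MvPowerSeries (Fin d) k) p) (hof d p k) (hS d p k) f ∈
    span (Set.range fun i => WittVector.teichmuller p (K658.Soo.x p k d 0 i)) := by
  have h1 : span (Set.range (MvPowerSeries.X : Fin d → A p k d)) ≤
      (span (Set.range fun i => WittVector.teichmuller p (K658.Soo.x p k d 0 i))).comap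
        (Tilt.rho0 (PerfectClosure.of (MvPowerSeries (Fin d) k) p) (hof d p k) (hS d p k)) := by
    rw [span_le]
    rintro _ ⟨i, rfl⟩
    rw [SetLike.mem_coe, Ideal.mem_comap, Tilt.rho0_X]
    exact subset_span ⟨i, rfl⟩
  exact h1 hf

/-- Completion invariance for `Φ : R_∞ → W(S_∞)/ξ`. -/
theorem nonempty_Phi (i : ℤ) (HUK : ∀ {R₀ : CommRingCat.{u}} (x : Fin d → R₀) (a : R₀), a ∈ (span (Set.range x)).radical →
      HU (K.{u} ℓ d) x a) (hf : f ∈ Ideal.span (Set.range (MvPowerSeries.X : Fin d → A p k d))) :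
    Nonempty ((evO (ptS (Rinf f) (xInf f 0)) (K.{u} ℓ d)).homology i ≅
      (evO (ptS (WittVector p (K658.Soo.S p k d) ⧸ span {ξ f}) (fun i => Ideal.Quotient.mk (span {ξ f})
        (WittVector.teichmuller p (K658.Soo.x p k d 0 i)))) (K.{u} ℓ d)).homology i) := by
  let R₀ : CommRingCat.{u} := CommRingCat.of (Rinf f)
  let Φ := Tilt.Phi (PerfectClosure.of (MvPowerSeries (Fin d) k) p) (hof d p k) (hS d p k) f
  let Y : (Under R₀)ᵒᵖ := op (Under.mk (𝟙 R₀))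
  let X : (Under R₀)ᵒᵖ := op (Under.mk (Y := CommRingCat.of (WittVector p (K658.Soo.S p k d) ⧸ span {ξ f}))
    (CommRingCat.ofHom Φ))
  let g : X ⟶ Y := Quiver.Hom.op (Under.homMk (CommRingCat.ofHom Φ) (by
    change 𝟙 R₀ ≫ _ = _
    rw [Category.id_comp]
    rfl))
  have hrad : ((p : ℕ) : Rinf f) ∈ (span (Set.range (xInf f 0))).radical :=
    Ideal.le_radical (p_mem_span_xInf hf)
  have hce : CE ((p : ℕ) : Rinf f) Φ := by
    constructor
    · intro n y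
      obtain ⟨z, hz⟩ := Tilt.exists_dvd_sub_Phi (PerfectClosure.of (MvPowerSeries (Fin d) k) p) (hof d p k)
        (hS d p k) f n y
      refine ⟨z, ?_⟩
      rw [map_natCast]
      exact hz
    · intro n z hz
      rw [map_natCast] at hz
      exact Tilt.dvd_of_dvd_Phi (PerfectClosure.of (MvPowerSeries (Fin d) k) p) (hof d p k)
        (hS d p k) f n z hz
  have h1 : QMap (rs (ptO (R₀ := R₀) (xInf f 0)).op (K.{u} ℓ d)) g := HUK (R₀ := R₀) (xInf f 0) ((p : ℕ) : Rinf f) hrad g hce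
  obtain ⟨e⟩ := nonempty_of_QMap h1 i
  have hX : (ptO (R₀ := R₀) (xInf f 0)).obj X = ptS (WittVector p (K658.Soo.S p k d) ⧸ span {ξ f})
      (fun i => Φ (xInf f 0 i)) := rfl
  have hx : (fun i => Φ (xInf f 0 i)) = (fun i => Ideal.Quotient.mk (span {ξ f})
        (WittVector.teichmuller p (K658.Soo.x p k d 0 i))) := by
    funext i
    exact Tilt.Phi_xInf_zero _ _ _ f i
  rw [← hx]
  exact ⟨e⟩

include HVK HUK HA in
/-- `H^i_(x)(S_∞) ≅ H^i_(x)(R_∞)`. -/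
theorem nonempty_iso (hf : f ∈ Ideal.span (Set.range (MvPowerSeries.X : Fin d → A p k d))) (i : ℤ) :
    Nonempty ((evO (ptS (K658.Soo.S p k d) (fun i => PerfectClosure.of (MvPowerSeries (Fin d) k) p
      (MvPowerSeries.X i))) (K.{u} ℓ d)).homology i ≅ (evO (ptS (Rinf f) (xInf f 0)) (K.{u} ℓ d)).homology i) := by
  have hρ := rho_mem (d := d) f hf
  have hd := K658.Soo.isDist_S p k d _ hρ
  have hx := K658.Soo.coeff_zero_mem_S p k d _ hρ
  have hp := K658.Soo.p_mem_S p k d _ hρ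
  obtain ⟨α, hgood⟩ := HA (B₀ := CommRingCat.of (K658.Soo.S p k d)) (K658.Soo.isPerf_S p k d) (ξ f) hd
    (K658.Soo.x p k d 0)
  obtain ⟨e1⟩ := T HVK HUK (B₀ := CommRingCat.of (K658.Soo.S p k d)) (K658.Soo.isPerf_S p k d) (ξ f) hd
    (K658.Soo.x p k d 0) (Ideal.le_radical hx) (Ideal.le_radical hp) α hgood i
  obtain ⟨e2⟩ := nonempty_Phi (ℓ := ℓ) f i HUK hf
  exact ⟨e1 ≪≫ e2.symm⟩

end tower

open Groth.Agent.EtDual.K375 Groth.Agent.EtDual.K375.Tower in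
/-- Weak punctual purity of `R_∞`. -/
theorem hinf {ℓ d : ℕ} (hℓ : ℓ.Prime) (HVK : ∀ {R₀ : CommRingCat.{u}} (x : Fin d → R₀), HV (K.{u} ℓ d) x)
    (HUK : ∀ {R₀ : CommRingCat.{u}} (x : Fin d → R₀) (a : R₀), a ∈ (span (Set.range x)).radical →
      HU (K.{u} ℓ d) x a) (HA : AlphaIn.{u} ℓ d)
    (p : ℕ) [Fact p.Prime] (k : Type u) [Field k] [IsAlgClosed k] [CharP k p] [PerfectRing k p]
    (f : A p k d) (hf : f ∈ Ideal.span (Set.range (MvPowerSeries.X : Fin d → A p k d)))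
    (hlp : ℓ ≠ p) (hd : 2 ≤ d) :
    haveI := isLocalRing_Rinf hf
    K726.PuncWeakAt ℓ (Rinf f) d := by
  have := isLocalRing_Rinf hf
  have hne : NeZero ℓ := ⟨hℓ.ne_zero⟩
  have hk : (ℓ : k) ≠ 0 := by
    intro h
    rw [CharP.cast_eq_zero_iff k p] at h
    exact hlp ((Nat.prime_dvd_prime_iff_eq Fact.out hℓ).1 h).symm
  refine Groth.Agent.EtDual.K850.EndK.puncWeakAt hf (K658.Soo.isRad_S p k d) (J ℓ d) (hv ℓ d) (U0 d).ι ?_
    (by omega) hℓ.pos hk fun i => nonempty_iso HVK HUK HA f hf i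
  rw [Scheme.Opens.range_ι]
  rfl

/-- **Weak punctual purity.** -/
theorem puncWeak' (ℓ : ℕ) (hℓ : ℓ.Prime)
    (HVK : ∀ (d : ℕ) {R₀ : CommRingCat.{u}} (x : Fin d → R₀), HV (K.{u} ℓ d) x)
    (HUK : ∀ (d : ℕ) {R₀ : CommRingCat.{u}} (x : Fin d → R₀) (a : R₀), a ∈ (span (Set.range x)).radical →
      HU (K.{u} ℓ d) x a) (HA : ∀ d : ℕ, AlphaIn.{u} ℓ d) : K726.PuncWeak.{u} ℓ :=
  Groth.Agent.EtDual.K850.Red.puncWeak_of_Rinf ℓ hℓ fun p _ k _ _ _ _ d f hf _ hlp hd =>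
    hinf hℓ (HVK d) (HUK d) (HA d) p k f hf hlp hd

end K608.Final
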