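import Groth.Agent.EtDual.K608.Punc
import Groth.Agent.EtDual.K726.Main

/-!
# Purity of regular divisors in regular schemes
-/

set_option autoImplicit false

universe u

/-- **Purity for regular divisors**: the last input of Gabber's absolute purity theorem. -/
theorem K608.divPure (n : ℕ) (hn : 0 < n) : K3.DivDef.DivPure.{u} n :=
  K726.Main.divPure (fun ℓ hℓ => K608.Punc.puncWeak ℓ hℓ) n hn
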