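import Groth.Agent.EtDual.K608.Final
import Groth.Agent.EtDual.K143.AlphaMain
import Groth.Agent.EtDual.K147.HV
import Groth.Agent.EtDual.K821.Compl
import Groth.Agent.EtDual.K855.HensQ

/-!
# Weak punctual purity
-/

set_option autoImplicit false
set_option backward.isDefEq.respectTransparency false
set_option backward.isDefEq.respectTransparency.types false

universe u

open CategoryTheory CategoryTheory.Limits Opposite Ideal K148.Perf AlgebraicGeometry

noncomputable section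

namespace K608.Punc

open K781.Desc K933.PerfCat K933.UnivDesc K933.Main K617.PerfUD K617.TauDesc K617.UDQuasi K343.Basic K224.Desc
open K855.HomCmp K152.Fib K148.Prim K608.Final

attribute [local instance] isGrothendieckAbelian_AbK

theorem range_U0 (d : ℕ) : Set.range (U0.{u} d).ι = {q : Spec (Pd.{u} d) |
    ∃ i, (MvPolynomial.X i : MvPolynomial (Fin d) (ULift.{u} ℤ)) ∉ q.asIdeal} := by
  rw [Scheme.Opens.range_ι]
  ext q
  change q ∉ PrimeSpectrum.zeroLocus (Set.range (MvPolynomial.X : Fin d → MvPolynomial (Fin d) (ULift.{u} ℤ))) ↔ _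
  rw [PrimeSpectrum.mem_zeroLocus, Set.range_subset_iff]
  simp

instance quasiCompact_U0 (d : ℕ) : QuasiCompact (U0.{u} d).ι := by
  have : IsNoetherianRing (MvPolynomial (Fin d) (ULift.{u} ℤ)) := by
    have : IsNoetherianRing (ULift.{u} ℤ) := isNoetherianRing_of_ringEquiv ℤ ULift.ringEquiv.symm
    infer_instance
  have : IsNoetherianRing (Pd.{u} d) := this
  infer_instance

theorem alphaIn (ℓ : ℕ) [NeZero ℓ] (d : ℕ) : AlphaIn.{u} ℓ d := by
  intro p _ B₀ hB₀ ξ hξ x
  exact ⟨Groth.Agent.EtDual.K143.PV.alphaMain (range_U0 d) (ULift.{u + 1} (ZMod ℓ)) ξ x (J ℓ d),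
    Groth.Agent.EtDual.K143.PV.hgood (range_U0 d) (ULift.{u + 1} (ZMod ℓ)) ξ x (J ℓ d) hξ (hv ℓ d)⟩

theorem hvK (ℓ : ℕ) [NeZero ℓ] (d : ℕ) {R₀ : CommRingCat.{u}} (x : Fin d → R₀) : HV (K.{u} ℓ d) x :=
  K147.Glue.hv (U0 d).ι (Groth.Agent.EtDual.K850.Red.isTorsion_const _ ℓ (NeZero.pos ℓ)) (J ℓ d) x

/-- Completion invariance. -/
theorem huK (ℓ : ℕ) [NeZero ℓ] (d : ℕ) {R₀ : CommRingCat.{u}} (x : Fin d → R₀) (a : R₀)
    (ha : a ∈ (span (Set.range x)).radical) : HU (K.{u} ℓ d) x a := by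
  intro X Y f hf
  have h1 : el a Y ∈ (Ideal.span (Set.range fun i => Y.unop.hom.hom (x i))).radical := by
    have h2 := Ideal.mem_map_of_mem Y.unop.hom.hom ha
    have h3 := Ideal.map_radical_le Y.unop.hom.hom h2
    rw [Ideal.map_span, ← Set.range_comp] at h3
    exact h3
  have hq : K23.LocAlg.QIso f.unop.right.hom (el a Y) :=
    ⟨fun k b hb => Ideal.mem_span_singleton.2 (hf.2 k b (Ideal.mem_span_singleton.1 hb)), fun k y => by
      obtain ⟨b, hb⟩ := hf.1 k y
      refine ⟨b, Ideal.mem_span_singleton.2 ?_⟩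
      rw [← neg_sub]
      exact (dvd_neg).2 hb⟩
  have key := K821.Compl.quasiIso_KF HTop.phTopology (U0.{u} d).ι
    (Groth.Agent.EtDual.K850.Red.isTorsion_const _ ℓ (NeZero.pos ℓ)) (J ℓ d)
    (fun V => K821.Dict.ac_of_isZero _ V (fun q hq => hv ℓ d V q hq) (J ℓ d)) f.unop.right.hom (el a Y) hq
    (z := ((ptO x).obj Y).hom) (z₁ := ((ptO x).obj X).hom) (Over.w ((ptO x).map f)) (fun q hq => by
      by_contra hc
      exact hq (K855.HensQ.mem_of_notMem_range (U0.{u} d).ι (by rw [Scheme.Opens.range_ι]; rfl) _ (el a Y) h1 q hc))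
  exact key

/-- **Weak punctual purity** for all strictly henselian regular local rings of dimension at least two. -/
theorem puncWeak (ℓ : ℕ) (hℓ : ℓ.Prime) : K726.PuncWeak.{u} ℓ :=
  haveI : NeZero ℓ := ⟨hℓ.ne_zero⟩
  puncWeak' ℓ hℓ (fun d _ x => hvK ℓ d x) (fun d _ x a ha => huK ℓ d x a ha) (fun d => alphaIn ℓ d)

end K608.Punc
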